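import Cfsg.Agent.H554.IFE7.Diag
import Cfsg.Agent.H138.IF.FixSt
import Cfsg.Agent.H708.E7O.Fin

/-!
# S5719, `E₇(q)`, `|A|` odd: the cell (helper554)

* `hAlg_of_locFin`; `hSt` : the bound in `(MM t ⊔ TT)^τ`; `box` : `H708.E7O.Box F`; `e7_O` : `KillO (chevE7.group F)`.
-/

set_option autoImplicit false
set_option linter.unusedSectionVars false

namespace Cfsg.Agent.H554.IFE7.Box

open CoxeterSystem Cfsg Cfsg.Lie Cfsg.Lie.ChevalleyDatum
open Cfsg.Agent.ChevalleyStructure Cfsg.Agent.ChevalleyStructure.Elts Cfsg.Agent.ChevalleyStructure.CoxeterGeom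
  Cfsg.Agent.ChevalleyStructure.CoxeterGeomTypes Cfsg.Agent.ChevalleyStructure.NPerm
open Cfsg.Agent.Tits.Roots Cfsg.Agent.Tits.Core Cfsg.Agent.Nodes Cfsg.Agent.Nodes.Reps Cfsg.Agent.Nodes.BNOf
  Cfsg.Agent.Nodes.RGDChev Cfsg.Agent.Nodes.Bruhat Cfsg.Agent.Nodes.NormalForm
open Cfsg.Agent.KFacts.RgdField Cfsg.Agent.KFacts.RgdChevCoord
open Cfsg.Agent.BpExc Cfsg.Agent.BpExc.TorCent Cfsg.Agent.BpExc.TorChev Cfsg.Agent.BpExc.Tow
  Cfsg.Agent.BpExc.TowChev Cfsg.Agent.BpExc.Fr Cfsg.Agent.BpExc.Pair Cfsg.Agent.BpExc.LangFr Cfsg.Agent.GpExc.Field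
  Cfsg.Agent.BpExc.NInst Cfsg.Agent.BpExc.NChev Cfsg.Agent.BpExc.Asm Cfsg.Agent.BpExc.TorAll
open Cfsg.Agent.H35.ExcIdx (hpE7)
open Cfsg.Agent.H129.TorusUntw (phi isFrob_phi fr_phi)

universe u v

theorem hAlg_of_locFin {k : Type u} [Field k] (hk : LocFin k) (r : ℕ) [Fact r.Prime] [CharP k r] : HAlg r k := by
  classical
  intro a
  obtain ⟨E, hE, ha⟩ := hk {a} (Set.finite_singleton a)
  have := hE
  have : Fintype ↥E := Fintype.ofFinite _
  obtain ⟨m, -, hm⟩ := FiniteField.card ↥E r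
  refine ⟨m, m.pos, ?_⟩
  have ha' : a ∈ E := ha (Set.mem_singleton a)
  have h1 := FiniteField.pow_card (⟨a, ha'⟩ : ↥E)
  rw [hm] at h1
  exact congrArg Subtype.val h1

section

variable {D : ChevalleyDatum} {l : ℕ} {M : CoxeterMatrix (Fin l)} (hp : IsType D l M)
  {W : Type v} [Group W] (cs : CoxeterSystem M W) {k : Type u} [Field k]

/-- **The bound in `(MM t ⊔ TT)^τ`.** -/
theorem bound [IsAlgClosed k] (hk : LocFin k) {r e : ℕ} [Fact r.Prime] [CharP k r] (hr2 : r ≠ 2)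
    {t : ↥(D.group k)} (ht : t ∈ TT D k) (he : 0 < e) {τ : MulAut ↥(D.group k)}
    (hτ : IsFrob r e τ) {g : (Fin l → ℤ) ≃+ (Fin l → ℤ)} (F : Fr cs hp.isCartan (TT D k) (XX D l k) τ g)
    (hτt : τ t = t) (hpos : ∀ a ∈ Sx cs hp.isCartan (ch hp) t, 0 ≤ a → 0 ≤ g a)
    [Finite ↥(fixedSubgroup τ)]
    (X : Subgroup ↥((MM cs hp.isCartan (XX D l k) (ch hp) t ⊔ TT D k) ⊓ fixedSubgroup τ)) (hX : Odd (Nat.card X)) :
    (r ^ e) ^ (NInst.SP (Sx cs hp.isCartan (ch hp) t)).ncard ≤ X.index := by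
  have hWf := finite_W hp cs
  have C := coordsL (k := k) hp cs hk r
  have hTL := TL_eq (k := k) hp hk
  have hXL := XL_eq (k := k) hp hk
  have hfin0 : Finite ↥((MM cs hp.isCartan (XX D l k) (ch hp) t ⊔ TT D k) ⊓ fixedSubgroup τ) :=
    Finite.of_injective _ (Subgroup.inclusion_injective inf_le_right)
  have hFS : ∀ a, g a ∈ Sx cs hp.isCartan (ch hp) t ↔ a ∈ Sx cs hp.isCartan (ch hp) t := by
    have C' : Coords cs hp.isCartan (TL (Tj hp (k := k))) (nc hp k) (XL (Xj hp (k := k))) (xc hp) (ch hp) := by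
      rw [hTL, hXL]; exact C
    have F' : Fr cs hp.isCartan (TL (Tj hp (k := k))) (XL (Xj hp (k := k))) τ g := by rw [hTL, hXL]; exact F
    exact fun a => F'.mem_Sx C' (by rw [hTL]; exact ht) hτt a
  have hcard := H461.E2.Fix.card_fix (hp := hp) (cs := cs) hk r he hτ F
    (Ψ := NInst.SP (Sx cs hp.isCartan (ch hp) t)) (fun a ha => ⟨ha.1.1, ha.2⟩)
    (H461.E2.Cent.zcl_Sx (r := r) hp cs hk ht) (fun a ha => ⟨(hFS a).2 ha.1, hpos a ha.1 ha.2⟩)
  rw [← hcard]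
  exact H138.IF.fix_index hp cs hk hr2 ht he hτ F hτt hpos hX

end

/-- **The box.** -/
theorem box (F : Type u) [Field F] [Fintype F] : H708.E7O.Box F := by
  intro r _ _ e hr2 hq x hx hx2 X hX
  have hk := Cfsg.Agent.H296.Core.locFin_closure F r
  have he : 0 < e := by
    rcases Nat.eq_zero_or_pos e with rfl | h
    · rw [pow_zero] at hq
      exact absurd hq (Fintype.one_lt_card (α := F)).ne'
    · exact h
  have hfix : Finite ↥(fixedSubgroup (phi chevE7 (H708.E7O.kk F) r e)) := Sig.finite_fixed hk he isFrob_phi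
  exact Diag.diag_of hk (hAlg_of_locFin hk r) hr2 he
    (fun t τ g ht hτ Fτ hτt hpos hfin X hX => bound hpE7 _ hk hr2 ht he hτ Fτ hτt hpos X hX)
    isFrob_phi (fr_phi hpE7 _) hx (by rw [pow_two]; exact hx2) hX

/-- **The cell** `E₇(q)`, `|A|` odd. -/
theorem e7_O {F : Type u} [Field F] [Fintype F] : H209.Fxy.KillO (chevE7.group F) :=
  H708.E7O.e7_of_box (box F)

end Cfsg.Agent.H554.IFE7.Box
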