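import Cfsg.Agent.H824.E7.NoTwoP

/-!
# S5719, `E₇(q)`, `q` odd: the roots trivial on an involution of the torus (helper554)

* `ncard_ge` : at least 28 positive roots are trivial on every `t ∈ TT` with `t ^ 2 = 1`.
-/

set_option autoImplicit false
set_option linter.unusedSectionVars false

namespace Cfsg.Agent.H554.IFE7.Cnt

open CoxeterSystem Cfsg Cfsg.Lie Cfsg.Lie.ChevalleyDatum
open Cfsg.Agent.ChevalleyStructure Cfsg.Agent.ChevalleyStructure.Elts Cfsg.Agent.ChevalleyStructure.CoxeterGeom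
  Cfsg.Agent.ChevalleyStructure.CoxeterGeomTypes Cfsg.Agent.ChevalleyStructure.NPerm
open Cfsg.Agent.Tits.Roots Cfsg.Agent.Tits.Core Cfsg.Agent.Nodes Cfsg.Agent.Nodes.Reps Cfsg.Agent.Nodes.BNOf
  Cfsg.Agent.Nodes.RGDChev Cfsg.Agent.Nodes.Bruhat Cfsg.Agent.Nodes.OppDec
open Cfsg.Agent.KFacts.RgdField Cfsg.Agent.KFacts.RgdChevCoord
open Cfsg.Agent.BpExc Cfsg.Agent.BpExc.TorCent Cfsg.Agent.BpExc.TorChev Cfsg.Agent.BpExc.TowChev
  Cfsg.Agent.BpExc.NInst Cfsg.Agent.BpExc.TorAll
open Cfsg.Agent.ChevalleyStructure.RootVec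
open Cfsg.Agent.H35.ExcIdx (hpE7)
open Cfsg.Agent.H824.E7.Aut (hD)
open Cfsg.Agent.H824.E7.NoTwoP

universe u

/-- the positive roots (as numbers) with an even value -/
def ev (w : List ℤ) : List ℕ :=
  (List.range 126).filter fun r => decide ((cv r).all fun x => decide (0 ≤ x)) && decide (dt w (cv r) % 2 = 0)

theorem chkA : ((List.range 128).all fun m => decide (28 ≤ (ev (bits m)).length)) = true := by
  decide +kernel

theorem chkB : ((List.range 126).all fun r => (List.range 126).all fun s =>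
    decide (r = s) || decide (cv r ≠ cv s)) = true := by
  decide +kernel

theorem vec_inj {r s : ℕ} (hr : r < 126) (hs : s < 126) (e : vec chevE7 7 r = vec chevE7 7 s) : r = s := by
  have h1 := List.all_eq_true.1 (List.all_eq_true.1 chkB r (List.mem_range.2 hr)) s (List.mem_range.2 hs)
  rw [Bool.or_eq_true] at h1
  rcases h1 with h1 | h1
  · exact of_decide_eq_true h1
  · refine absurd ?_ (of_decide_eq_true h1)
    refine List.map_congr_left fun i hi => ?_
    have h2 := congrFun e ⟨i, List.mem_range.1 hi⟩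
    rwa [vec_apply, vec_apply] at h2

theorem exists_bits' (b : Fin 7 → Bool) : ∃ m < 128, ∀ i : Fin 7, (bits m).getD i 0 = ((b i).toNat : ℤ) := by
  by_cases h : ∃ i, b i = true
  · obtain ⟨m, hm, h1⟩ := exists_bits b h
    exact ⟨m + 1, by omega, h1⟩
  · push Not at h
    refine ⟨0, by omega, fun i => ?_⟩
    have h1 : b i = false := by simpa using h i
    rw [h1]
    clear h1
    revert i
    clear h b
    decide +kernel

variable {W : Type*} [Group W] (cs : CoxeterSystem CoxeterMatrix.E₇ W)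
variable {k : Type u} [Field k] (hk : LocFin k) (p : ℕ) [Fact p.Prime] [CharP k p]

include hk p

/-- **The roots trivial on an involution of the torus.** -/
theorem ncard_ge (hp2 : p ≠ 2) {t : ↥(chevE7.group k)} (ht : t ∈ TT chevE7 k) (ht2 : t ^ 2 = 1) :
    28 ≤ (SP (Sx cs hpE7.isCartan (ch hpE7) t)).ncard := by
  classical
  have C := coordsL (k := k) hpE7 cs hk p
  have hone : (-1 : k) ≠ 1 := by
    intro h
    have h2 : (2 : k) = 0 := by linear_combination -h
    have h3 : ((2 : ℕ) : k) = 0 := by exact_mod_cast h2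
    rw [CharP.cast_eq_zero_iff k p] at h3
    exact hp2 ((Nat.prime_dvd_prime_iff_eq Fact.out Nat.prime_two).1 h3)
  have hsq : ∀ i, ch hpE7 (sr i) t = 1 ∨ ch hpE7 (sr i) t = -1 := by
    intro i
    have hri := isRoot_sr cs hpE7.isCartan i
    rw [← sq_eq_one_iff]
    have h1 := (C.coord _ hri).act t ht 1
    have h2 := (C.coord _ hri).act t ht (ch hpE7 (sr i) t * 1)
    rw [← h1] at h2
    have h3 : t * (t * xc hpE7 (sr i) 1 * t⁻¹) * t⁻¹ = t ^ 2 * xc hpE7 (sr i) 1 * (t ^ 2)⁻¹ := by
      rw [pow_two]; group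
    rw [h3, ht2, one_mul, inv_one, mul_one] at h2
    have h4 := (C.coord _ hri).inj h2
    rw [pow_two]
    rw [mul_one] at h4
    exact h4.symm
  obtain ⟨m, hm, hb⟩ := exists_bits' (fun i => decide (ch hpE7 (sr i) t = -1))
  have h2 : ∀ i, ch hpE7 (sr i) t = (-1) ^ ((bits m).getD i 0) := by
    intro i
    rw [hb i]
    rcases hsq i with h | h
    · have h3 : ¬ (ch hpE7 (sr i) t = -1) := by rw [h]; exact hone.symm
      rw [decide_eq_false h3, h]
      simp
    · rw [decide_eq_true h, h]
      simp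
  have key : ∀ a, IsRoot cs hpE7.isCartan a → fn (bits m) a % 2 = 0 → ch hpE7 a t = 1 := by
    intro a ha h4
    rw [ch_prod cs hk p ht ha]
    have h5 : ∀ s : Finset (Fin 7), ∏ i ∈ s, ch hpE7 (sr i) t ^ a i =
        (-1 : k) ^ ∑ i ∈ s, (bits m).getD i 0 * a i := by
      intro s
      induction s using Finset.induction_on with
      | empty => simp
      | insert b s hb ih =>
        rw [Finset.prod_insert hb, Finset.sum_insert hb, ih, zpow_add₀ (neg_ne_zero.2 one_ne_zero), h2 b, zpow_mul]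
    rw [h5, ← fn_apply]
    exact (Int.even_iff.2 h4).neg_one_zpow
  have hmem : ∀ r ∈ ev (bits m), vec chevE7 7 r ∈ SP (Sx cs hpE7.isCartan (ch hpE7) t) := by
    intro r hr
    rw [ev, List.mem_filter, Bool.and_eq_true] at hr
    obtain ⟨hr1, hr2, hr3⟩ := hr
    have hr' : r < 126 := List.mem_range.1 hr1
    have ha : IsRoot cs hpE7.isCartan (vec chevE7 7 r) := (isRoot_iff hpE7 cs _).2 ⟨r, hr', rfl⟩
    refine ⟨⟨ha, key _ ha ?_⟩, fun i => ?_⟩
    · rw [← dt_cv]
      exact of_decide_eq_true hr3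
    · have h3 := List.all_eq_true.1 (of_decide_eq_true hr2) (rt chevE7 r i)
        (List.mem_map.2 ⟨i, List.mem_range.2 i.2, rfl⟩)
      rw [vec_apply]
      exact of_decide_eq_true h3
  have hWf := finite_W hpE7 cs
  have hfin : (SP (Sx cs hpE7.isCartan (ch hpE7) t)).Finite :=
    (RGD.finite_roots (cs := cs) (h := hpE7.isCartan)).subset fun a ha => ha.1.1
  have hnd : (ev (bits m)).Nodup := List.nodup_range.filter _
  have hlen : 28 ≤ (ev (bits m)).length := of_decide_eq_true (List.all_eq_true.1 chkA m (List.mem_range.2 hm))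
  have hinj : Set.InjOn (vec chevE7 7) ((ev (bits m)).toFinset : Set ℕ) := by
    intro r hr s hs e
    have hr' : r < 126 := List.mem_range.1 (List.mem_filter.1 (List.mem_toFinset.1 (Finset.mem_coe.1 hr))).1
    have hs' : s < 126 := List.mem_range.1 (List.mem_filter.1 (List.mem_toFinset.1 (Finset.mem_coe.1 hs))).1
    exact vec_inj hr' hs' e
  calc 28 ≤ (ev (bits m)).length := hlen
    _ = (ev (bits m)).toFinset.card := (List.toFinset_card_of_nodup hnd).symm
    _ = ((ev (bits m)).toFinset.image (vec chevE7 7)).card := (Finset.card_image_of_injOn hinj).symm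
    _ = (((ev (bits m)).toFinset.image (vec chevE7 7) : Finset (Fin 7 → ℤ)) : Set (Fin 7 → ℤ)).ncard :=
        (Set.ncard_coe_finset _).symm
    _ ≤ _ := by
        refine Set.ncard_le_ncard ?_ hfin
        intro a ha
        rw [Finset.mem_coe, Finset.mem_image] at ha
        obtain ⟨r, hr, rfl⟩ := ha
        exact hmem r (List.mem_toFinset.1 hr)

end Cfsg.Agent.H554.IFE7.Cnt
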